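import Cfsg.Agent.OddHalf.LieOddFam

/-!
# ODD half, node U2: the rows

`u2_of_rows`: the node `Iface.U2` (`K` with nontrivial centre, `K / Z(K)` of Lie type in odd characteristic) from

* `Mult`: a quasisimple group whose centre is a nontrivial 2-group and whose central quotient is `PSL(2,q)`, `q` odd,
  `q ≠ 9`, has 2-rank 1; the same for a Ree group: impossible; the same for the other types with odd multiplier over
  the field with 3 elements;
* `Rows`: one row for all types of rank at least 2 over fields with more than 3 elements, and the rows over the field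
  with 3 elements.

No row has a hypothesis on `C(K)`.
-/

set_option autoImplicit false

namespace Cfsg.Agent.OddHalf.U2.Cut

open Subgroup Cfsg Cfsg.Agent.OddHalf.Iface Cfsg.Agent.OddHalf.LieOddFam

universe u

/-- The row of a property of `K / Z(K)`: standard `K` with nontrivial centre. -/
def Row (P : (X : Type u) → [Group X] → Prop) : Prop :=
  ∀ (G : Type u) [Group G], Ctx G → ∀ K : Subgroup G, Std0 G K → center ↥K ≠ ⊥ → P (↥K ⧸ center ↥K) → False

/-- Quasisimple with centre a nontrivial 2-group. -/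
def QsTwo (K : Type u) [Group K] : Prop :=
  Finite K ∧ IsQuasisimple K ∧ IsPGroup 2 ↥(center K) ∧ center K ≠ ⊥

/-- The facts about multipliers. -/
structure Mult : Prop where
  l2 : ∀ (K : Type u) [Group K], QsTwo K → XL27 (K ⧸ center K) ∨ XL2Big (K ⧸ center K) → PRankLE 2 1 K
  ree : ∀ (K : Type u) [Group K], QsTwo K → ¬ Lie.IsoRee (K ⧸ center K)

/-- The rows. -/
structure Rows : Prop where
  /-- all types of rank at least 2, `q ≥ 5` -/
  big : Row.{u} (fun X _ => ∃ q : ℕ, OddPow q ∧ 5 ≤ q ∧ Rk X q)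
  /-- all types of rank at least 2, `q = 3` -/
  three : Row.{u} (fun X _ => Rk X 3)

/-- The sub-rows of `three` whose central quotient has odd multiplier (`K` does not exist). -/
structure ThreeOdd : Prop where
  l3 : Row.{u} (fun X _ => ∃ (F : Type) (_ : Field F) (_ : Fintype F), Fintype.card F = 3 ∧
    Nonempty (X ≃* Matrix.ProjectiveSpecialLinearGroup (Fin 3) F))
  u3 : Row.{u} (fun X _ => ∃ (F : Type) (_ : Field F) (_ : Fintype F), Fintype.card F = 9 ∧
    Nonempty (X ≃* PSU 3 F 3))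
  g2 : Row.{u} (fun X _ => FG2 X 3)
  f4 : Row.{u} (fun X _ => FF4 X 3)
  e6 : Row.{u} (fun X _ => FE6 X 3)
  e8 : Row.{u} (fun X _ => FE8 X 3)
  twE6 : Row.{u} (fun X _ => F2E6 X 3)
  twD4 : Row.{u} (fun X _ => F3D4 X 3)

/-- The sub-rows of `three` with intrinsic components. -/
structure ThreeEven : Prop where
  /-- `L_n(3)`, `n ≥ 4` -/
  l : Row.{u} (fun X _ => ∃ (F : Type) (_ : Field F) (_ : Fintype F) (n : ℕ), Fintype.card F = 3 ∧ 4 ≤ n ∧
    Nonempty (X ≃* Matrix.ProjectiveSpecialLinearGroup (Fin n) F))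
  /-- `U_n(3)`, `n ≥ 4` -/
  u : Row.{u} (fun X _ => ∃ (F : Type) (_ : Field F) (_ : Fintype F) (n : ℕ), Fintype.card F = 9 ∧ 4 ≤ n ∧
    Nonempty (X ≃* PSU n F 3))
  sp : Row.{u} (fun X _ => FSp X 3)
  odd : Row.{u} (fun X _ => FOdd X 3)
  plus : Row.{u} (fun X _ => FPlus X 3)
  minus : Row.{u} (fun X _ => FMinus X 3)
  e7 : Row.{u} (fun X _ => FE7 X 3)

theorem three_of (O : ThreeOdd.{u}) (E : ThreeEven.{u}) : Row.{u} (fun X _ => Rk X 3) := by
  intro G _ C K S hz h
  rcases h with h | h | h | h | h | h | h | h | h | h | h | h | h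
  · obtain ⟨F, _, _, n, h1, h2, f⟩ := h
    by_cases h3 : n = 3
    · subst h3
      exact O.l3 G C K S hz ⟨F, _, _, h1, f⟩
    · exact E.l G C K S hz ⟨F, _, _, n, h1, by omega, f⟩
  · exact E.sp G C K S hz h
  · obtain ⟨F, _, _, n, h1, h2, f⟩ := h
    by_cases h3 : n = 3
    · subst h3
      exact O.u3 G C K S hz ⟨F, _, _, by simpa using h1, f⟩
    · exact E.u G C K S hz ⟨F, _, _, n, by simpa using h1, by omega, f⟩
  · exact E.odd G C K S hz h
  · exact E.plus G C K S hz h
  · exact E.minus G C K S hz h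
  · exact O.g2 G C K S hz h
  · exact O.f4 G C K S hz h
  · exact O.e6 G C K S hz h
  · exact E.e7 G C K S hz h
  · exact O.e8 G C K S hz h
  · exact O.twE6 G C K S hz h
  · exact O.twD4 G C K S hz h

/-- `K` is quasisimple with centre a nontrivial 2-group. -/
theorem qsTwo {G : Type u} [Group G] (C : Ctx G) {K : Subgroup G} (S : Std0 G K) (hz : center ↥K ≠ ⊥) :
    QsTwo ↥K := by
  have := C.fin
  obtain ⟨t, -, hcomp⟩ := S.comp
  refine ⟨inferInstance, ⟨⟨?_⟩, S.simple⟩, S.z2, hz⟩
  have h1 := hcomp.2.2.1.commutator_eq_top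
  have e : ↥(K.subgroupOf (centralizer ({t} : Set G))) ≃* ↥K := subgroupOfEquivOfLe hcomp.1
  have h2 := Subgroup.map_commutator (⊤ : Subgroup ↥(K.subgroupOf (centralizer ({t} : Set G)))) ⊤
    e.toMonoidHom
  rw [← commutator_def, h1] at h2
  have h3 : (⊤ : Subgroup ↥(K.subgroupOf (centralizer ({t} : Set G)))).map e.toMonoidHom = ⊤ := by
    rw [← MonoidHom.range_eq_map, MonoidHom.range_eq_top]
    exact e.surjective
  rw [h3] at h2
  rw [commutator_def, ← h2]

/-- **U2** from the multiplier facts and the rows. -/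
theorem u2_of_rows (M : Mult.{u}) (R : Rows.{u}) : Iface.U2.{u} := by
  intro G _ C K S hL hz ha
  have hQ := qsTwo C S hz
  rcases lieOdd_cases hL ha with h | h | h | ⟨q, hq, h⟩
  · exact S.rk2 (M.l2 ↥K hQ (Or.inl h))
  · exact S.rk2 (M.l2 ↥K hQ (Or.inr h))
  · exact M.ree ↥K hQ h
  · by_cases h3 : q = 3
    · subst h3
      exact R.three G C K S hz h
    · exact R.big G C K S hz ⟨q, hq, hq.ne_four h3, h⟩

end Cfsg.Agent.OddHalf.U2.Cut
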