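import Cfsg.Agent.OddHalf.U2.Cut
import Cfsg.Agent.OddHalf.NI.CovTwo
import Cfsg.Agent.GH.Cov.Transfer
import Cfsg.Agent.S1152
import Cfsg.Agent.S1157

/-!
# ODD half, node U2: the multiplier facts `U2.Cut.Mult`

* `l2`: a quasisimple group whose centre is a nontrivial 2-group and whose central quotient is `PSL(2,q)`, `q` odd, is
  `SL(2,q)`, so it has 2-rank 1;
* `ree`: no such group has a Ree group as central quotient.
-/

set_option autoImplicit false
set_option linter.style.haveILetI false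

namespace Cfsg.Agent.OddHalf.U2.MultOf

open Subgroup Cfsg Cfsg.Agent.OddHalf.Iface Cfsg.Agent.OddHalf.LieOddFam Cfsg.Agent.OddHalf.U2.Cut

universe u v w

/-- `SL(2,q)`, `q` odd, has 2-rank 1. -/
theorem rank_sl {F : Type*} [Field F] [Fintype F] (hF : Odd (Fintype.card F)) :
    PRankLE 2 1 (Matrix.SpecialLinearGroup (Fin 2) F) := by
  intro A _ hA
  have h1 : (A : Set (Matrix.SpecialLinearGroup (Fin 2) F)) ⊆ {1, -1} := by
    intro a ha
    have h2 := hA a ha
    rw [pow_two] at h2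
    exact Lib.PSL2Inv.sq_eq_one (TwoFusion.QuatCoverSL.two_ne_zero_of_odd hF) h2
  calc Nat.card ↥A = (A : Set (Matrix.SpecialLinearGroup (Fin 2) F)).ncard := rfl
    _ ≤ ({1, -1} : Set (Matrix.SpecialLinearGroup (Fin 2) F)).ncard := Set.ncard_le_ncard h1
    _ ≤ ({-1} : Set (Matrix.SpecialLinearGroup (Fin 2) F)).ncard + 1 := Set.ncard_insert_le 1 _
    _ = 2 ^ 1 := by rw [Set.ncard_singleton]; norm_num

theorem rank_congr {K : Type u} {L : Type v} [Group K] [Group L] (e : K ≃* L) (h : PRankLE 2 1 L) :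
    PRankLE 2 1 K := by
  intro A hAc h2
  have hc : IsMulCommutative ↥(A.map e.toMonoidHom) := by
    refine ⟨⟨?_⟩⟩
    rintro ⟨_, a, ha, rfl⟩ ⟨_, b, hb, rfl⟩
    have h3 := congrArg Subtype.val (hAc.is_comm.comm ⟨a, ha⟩ ⟨b, hb⟩)
    apply Subtype.ext
    change e a * e b = e b * e a
    rw [← map_mul, ← map_mul]
    exact congrArg e h3
  have h3 := h (A.map e.toMonoidHom) hc (by
    rintro _ ⟨a, ha, rfl⟩
    change e a ^ 2 = 1
    rw [← map_pow, h2 a ha, map_one])
  rwa [Nat.card_congr (A.equivMapOfInjective e.toMonoidHom e.injective).toEquiv]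

/-- A nontrivial central 2-group contains a subgroup of index 2 (normal in the whole group). -/
theorem exists_half {K : Type*} [Group K] [Finite K] (h2 : IsPGroup 2 ↥(center K)) (hz : center K ≠ ⊥) :
    ∃ N : Subgroup K, N.Normal ∧ N ≤ center K ∧ Nat.card ↥(center K) = 2 * Nat.card ↥N := by
  haveI : Fact (Nat.Prime 2) := ⟨Nat.prime_two⟩
  haveI : Nontrivial ↥(center K) := by
    rw [nontrivial_iff_ne_bot]; exact hz
  obtain ⟨n, hn⟩ := IsPGroup.iff_card.mp h2
  have hn0 : n ≠ 0 := by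
    rintro rfl
    have h1 := Finite.one_lt_card_iff_nontrivial.mpr (inferInstance : Nontrivial ↥(center K))
    rw [hn, pow_zero] at h1
    exact lt_irrefl _ h1
  obtain ⟨m, rfl⟩ := Nat.exists_eq_succ_of_ne_zero hn0
  obtain ⟨M, hM⟩ := Sylow.exists_subgroup_card_pow_prime (G := ↥(center K)) 2 (n := m)
    (by rw [hn]; exact pow_dvd_pow 2 (Nat.le_succ m))
  have hle : M.map (center K).subtype ≤ center K := by
    rintro _ ⟨x, -, rfl⟩
    exact x.2
  refine ⟨M.map (center K).subtype, ⟨?_⟩, hle, ?_⟩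
  · intro x hx g
    have h1 := mem_center_iff.mp (hle hx) g
    rw [h1, mul_inv_cancel_right]
    exact hx
  · rw [← Nat.card_congr (M.equivMapOfInjective _ (center K).subtype_injective).toEquiv, hM, hn, pow_succ]
    ring

theorem not_of_equiv {Y : Type u} {X : Type v} [Group Y] [Group X] [Finite Y] [Finite X]
    (hperf : commutator Y = ⊤) (f : Y →* X) (hf : Function.Surjective f)
    (hk : Nat.card f.ker = 2) {Z : Type w} [Group Z] (e : X ≃* Z) (Q : Sylow 2 Z)
    (h8 : Nat.card Q = 8) (hQ : ∀ x ∈ Q, x * x = 1) : False := by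
  have hle : (Q : Subgroup Z) ≤ e.toMonoidHom.range := by
    rw [MonoidHom.range_eq_top.mpr e.surjective]; exact le_top
  let S : Sylow 2 X := Q.comapOfInjective e.toMonoidHom e.injective hle
  have hS : ∀ s, s ∈ (S : Subgroup X) ↔ e s ∈ (Q : Subgroup Z) := fun s => Iff.rfl
  refine GH.Cov.Transfer.not_e8 hperf f hf hk S ?_ ?_
  · rw [← h8]
    exact Nat.card_congr ⟨fun s => ⟨e s, (hS s).1 s.2⟩, fun t => ⟨e.symm t, (hS _).2 (by
      rw [e.apply_symm_apply]; exact t.2)⟩, fun s => Subtype.ext (e.symm_apply_apply _),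
      fun t => Subtype.ext (e.apply_symm_apply _)⟩
  · intro s hs
    apply e.injective
    rw [map_mul, map_one]
    exact hQ _ ((hS s).1 hs)

/-- The Ree groups have no perfect double cover. -/
theorem not_ree {Y : Type u} {X : Type v} [Group Y] [Group X] [Finite Y] [Finite X]
    (hperf : commutator Y = ⊤) (f : Y →* X) (hf : Function.Surjective f)
    (hk : Nat.card f.ker = 2) (hX : Lie.IsoRee X) : False := by
  obtain ⟨K, _, _, m, -, hK, ⟨e⟩⟩ := hX
  obtain ⟨a, haH, ha1, ha2⟩ := Cfsg.Agent.S1157.exists_involution hK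
  obtain ⟨-, hS⟩ := Cfsg.Agent.S1152.result hK a haH ha1 ha2
  obtain ⟨Q⟩ : Nonempty (Sylow 2 ↥(Cfsg.Lie.twistedG2 K (3 ^ m))) := inferInstance
  exact not_of_equiv hperf f hf hk e Q (hS Q).1 (hS Q).2

/-- A perfect group `K` with `Z(K)` a nontrivial 2-group: `K / Z(K)` is not a Ree group. -/
theorem ree {K : Type u} [Group K] (h : QsTwo K) : ¬ Lie.IsoRee (K ⧸ center K) := by
  obtain ⟨hfin, hq, h2, hz⟩ := h
  intro hr
  obtain ⟨N, hN, hle, hc⟩ := exists_half h2 hz
  let f : K ⧸ N →* K ⧸ center K := QuotientGroup.map N (center K) (MonoidHom.id K) hle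
  have hf : Function.Surjective f := by
    intro y
    obtain ⟨x, rfl⟩ := QuotientGroup.mk_surjective y
    exact ⟨QuotientGroup.mk x, rfl⟩
  have hperf : commutator (K ⧸ N) = ⊤ := by
    have h1 := Subgroup.map_commutator (⊤ : Subgroup K) ⊤ (QuotientGroup.mk' N)
    rw [← _root_.commutator_def, hq.1.commutator_eq_top, ← MonoidHom.range_eq_map,
      MonoidHom.range_eq_top.mpr (QuotientGroup.mk'_surjective N)] at h1
    exact h1.symm
  have hk : Nat.card f.ker = 2 := by
    have h1 : Nat.card (K ⧸ N) = Nat.card f.ker * Nat.card (K ⧸ center K) := by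
      rw [← f.ker.card_mul_index]
      congr 1
      rw [Subgroup.index_ker]
      rw [Nat.card_congr (MonoidHom.range_eq_top.mpr hf ▸ Subgroup.topEquiv.toEquiv)]
    have h2 := Subgroup.card_mul_index N
    have h3 := Subgroup.card_mul_index (center K)
    rw [Subgroup.index_eq_card] at h2 h3
    have h4 : 0 < Nat.card ↥N := Nat.card_pos
    have h5 : 0 < Nat.card (K ⧸ center K) := Nat.card_pos
    rw [hc, ← h2, h1] at h3
    have h6 : Nat.card ↥N * Nat.card (K ⧸ center K) * 2 =
        Nat.card ↥N * Nat.card (K ⧸ center K) * Nat.card f.ker := by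
      calc _ = 2 * Nat.card ↥N * Nat.card (K ⧸ center K) := by ring
        _ = Nat.card ↥N * (Nat.card f.ker * Nat.card (K ⧸ center K)) := h3
        _ = _ := by ring
    exact (Nat.eq_of_mul_eq_mul_left (Nat.mul_pos h4 h5) h6).symm
  exact not_ree hperf f hf hk hr

/-- A perfect group `K` with `Z(K)` a nontrivial 2-group and `K / Z(K)` of type `PSL(2,q)`, `q` odd, has 2-rank 1. -/
theorem l2 {K : Type u} [Group K] (h : QsTwo K) {F : Type} [Field F] [Fintype F] (hF : Odd (Fintype.card F))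
    (e : K ⧸ center K ≃* Matrix.ProjectiveSpecialLinearGroup (Fin 2) F) : PRankLE 2 1 K := by
  obtain ⟨hfin, hq, h2, hz⟩ := h
  obtain ⟨⟨y, hy⟩, hy1⟩ := Subgroup.ne_bot_iff_exists_ne_one.mp hz
  obtain ⟨e'⟩ := NI.CovTwo.equiv_sl hF hq.1.commutator_eq_top h2 e hy (fun h => hy1 (Subtype.ext h))
  exact rank_congr e' (rank_sl hF)

/-- **The multiplier facts of node U2.** -/
theorem mult : Mult.{u} := by
  refine ⟨?_, fun K _ h => ree h⟩
  rintro K _ h (⟨F, _, _, hc, ⟨e⟩⟩ | ⟨F, _, _, ho, -, ⟨e⟩⟩)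
  · exact l2 h (by rw [hc]; decide) e
  · exact l2 h ho e

end Cfsg.Agent.OddHalf.U2.MultOf
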