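import Cfsg.Agent.TwoFusion.ClosedCommutator
import Cfsg.Agent.S1250
import Cfsg.Agent.ONType.CzIso

/-!
# Control of fusion by a subgroup in which an involution is "isolated", and normality

`X` finite, `M ≤ X`, `z ∈ M` with `g z g⁻¹ ∈ M → g ∈ M`. Then every 2-subgroup containing `z` lies in
`M`, and `M` controls the fusion of the elements commuting with `z`. With Goldschmidt's theorem on strongly closed
subgroups (S1171): if `A ≤ X`, `Z(A)` central in `X`, `z ∈ C_X(A)`, `C_X(z) ≤ N_X(A)` of odd index, and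
`g ∈ N_X(A)` whenever `g z g⁻¹` commutes with `z`, then `A` is normal in `X` (`O(X) = 1`, `A` generated by
2-elements).
-/

set_option autoImplicit false

open Subgroup
open scoped commutatorElement

namespace Cfsg.Agent.OddHalf.U2.Core

variable {X : Type*} [Group X] [Finite X]

/-- A 2-subgroup containing `z` lies in `M`. -/
theorem le_of_mem {M : Subgroup X} {z : X} (hzM : z ∈ M) (hctl : ∀ g : X, g * z * g⁻¹ ∈ M → g ∈ M)
    {Q : Subgroup X} (hQ : IsPGroup 2 Q) (hzQ : z ∈ Q) : Q ≤ M := by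
  have : Fact (Nat.Prime 2) := ⟨Nat.prime_two⟩
  by_contra hne
  have hlt : M.subgroupOf Q < ⊤ := lt_top_iff_ne_top.2 (fun h => hne (subgroupOf_eq_top.1 h))
  have := hQ.isNilpotent
  obtain ⟨n, hn, hnM⟩ := SetLike.exists_of_lt (Group.normalizerCondition_of_isNilpotent (G := Q) _ hlt)
  apply hnM
  rw [mem_subgroupOf]
  apply hctl
  have h2 : (⟨z, hzQ⟩ : Q) ∈ M.subgroupOf Q := mem_subgroupOf.2 hzM
  exact mem_subgroupOf.1 ((mem_normalizer_iff.1 hn _).1 h2)

/-- A 2-subgroup of `M` is conjugate in `M` into a subgroup of odd relative index. -/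
theorem exists_conj_le {M C Q : Subgroup X} (hQ : IsPGroup 2 Q) (hQM : Q ≤ M) (hodd : ¬ 2 ∣ C.relIndex M) :
    ∃ m ∈ M, ∀ q ∈ Q, m⁻¹ * q * m ∈ C := by
  have : Fact (Nat.Prime 2) := ⟨Nat.prime_two⟩
  have hQ' : IsPGroup 2 (Q.subgroupOf M) := hQ.comap_subtype
  have h1 : ¬ 2 ∣ Nat.card (↥M ⧸ C.subgroupOf M) := hodd
  obtain ⟨x, hx⟩ := hQ'.nonempty_fixed_point_of_prime_not_dvd_card (↥M ⧸ C.subgroupOf M) h1
  obtain ⟨m, rfl⟩ := QuotientGroup.mk_surjective x
  refine ⟨m, m.2, fun q hq => ?_⟩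
  have h2 := hx ⟨⟨q, hQM hq⟩, mem_subgroupOf.2 hq⟩
  have h3 : ((((⟨q, hQM hq⟩ : M) * m : M)) : ↥M ⧸ C.subgroupOf M) = (m : ↥M ⧸ C.subgroupOf M) := h2
  rw [eq_comm, QuotientGroup.eq, mem_subgroupOf] at h3
  simpa [mul_assoc] using h3

/-- `M` controls the fusion of elements commuting with `z`. -/
theorem fusion {M : Subgroup X} {z : X} (hz : z * z = 1) (hzM : z ∈ M)
    (hctl : ∀ g : X, g * z * g⁻¹ ∈ M → g ∈ M) {x g : X} (h1 : z * x = x * z)
    (h2 : z * (g * x * g⁻¹) = (g * x * g⁻¹) * z) :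
    ∃ m ∈ M, g * x * g⁻¹ = m * x * m⁻¹ := by
  have : Fact (Nat.Prime 2) := ⟨Nat.prime_two⟩
  set Y : Subgroup X := centralizer ({x} : Set X) with hY
  have hzY : z ∈ Y := mem_centralizer_singleton_iff.2 h1
  -- a Sylow 2-subgroup of `Y` containing `z`
  have hzp : IsPGroup 2 (zpowers (⟨z, hzY⟩ : Y)) := by
    rw [IsPGroup.iff_card, Nat.card_zpowers]
    have h3 : orderOf (⟨z, hzY⟩ : Y) ∣ 2 := by
      rw [orderOf_dvd_iff_pow_eq_one, pow_two]
      exact Subtype.ext hz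
    rcases (Nat.dvd_prime Nat.prime_two).1 h3 with h | h
    · exact ⟨0, by rw [h, pow_zero]⟩
    · exact ⟨1, by rw [h, pow_one]⟩
  obtain ⟨P, hP⟩ := hzp.exists_le_sylow
  have hzP : (⟨z, hzY⟩ : Y) ∈ (P : Subgroup Y) := hP (mem_zpowers _)
  have hPM : (P : Subgroup Y).map Y.subtype ≤ M :=
    le_of_mem hzM hctl (P.2.map _) ⟨⟨z, hzY⟩, hzP, rfl⟩
  have hg : g⁻¹ * z * g ∈ Y := by
    rw [hY, mem_centralizer_singleton_iff]
    calc g⁻¹ * z * g * x = g⁻¹ * (z * (g * x * g⁻¹)) * g := by group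
      _ = g⁻¹ * (g * x * g⁻¹ * z) * g := by rw [h2]
      _ = x * (g⁻¹ * z * g) := by group
  -- conjugate `g⁻¹ z g` into `P`
  have hidx : ¬ 2 ∣ (P : Subgroup Y).relIndex ⊤ := by
    rw [relIndex_top_right]
    exact P.not_dvd_index
  have hcp : IsPGroup 2 (zpowers (⟨g⁻¹ * z * g, hg⟩ : Y)) := by
    rw [IsPGroup.iff_card, Nat.card_zpowers]
    have h3 : orderOf (⟨g⁻¹ * z * g, hg⟩ : Y) ∣ 2 := by
      rw [orderOf_dvd_iff_pow_eq_one, pow_two]
      refine Subtype.ext ?_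
      show g⁻¹ * z * g * (g⁻¹ * z * g) = 1
      calc g⁻¹ * z * g * (g⁻¹ * z * g) = g⁻¹ * (z * z) * g := by group
        _ = 1 := by rw [hz]; group
    rcases (Nat.dvd_prime Nat.prime_two).1 h3 with h | h
    · exact ⟨0, by rw [h, pow_zero]⟩
    · exact ⟨1, by rw [h, pow_one]⟩
  obtain ⟨c, -, hc⟩ := exists_conj_le (M := ⊤) hcp le_top hidx
  have h4 := hPM ⟨_, hc _ (mem_zpowers _), rfl⟩
  have h5 : ((c : X)⁻¹ * g⁻¹) * z * ((c : X)⁻¹ * g⁻¹)⁻¹ ∈ M := by
    have : ((c : X)⁻¹ * g⁻¹) * z * ((c : X)⁻¹ * g⁻¹)⁻¹ =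
        Y.subtype (c⁻¹ * ⟨g⁻¹ * z * g, hg⟩ * c) := by
      simp [mul_assoc]
    rw [this]; exact h4
  have h6 := hctl _ h5
  have hcx : (c : X) * x = x * c := mem_centralizer_singleton_iff.1 c.2
  refine ⟨g * c, ?_, ?_⟩
  · have := inv_mem h6
    simpa using this
  · calc g * x * g⁻¹ = g * (x * c) * (c : X)⁻¹ * g⁻¹ := by group
      _ = g * (c * x) * (c : X)⁻¹ * g⁻¹ := by rw [hcx]
      _ = g * c * x * (g * c)⁻¹ := by group

/-- A subgroup normalized by `M` is strongly closed. -/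
theorem stronglyClosed {M : Subgroup X} {z : X} (hz : z * z = 1) (hzM : z ∈ M)
    (hctl : ∀ g : X, g * z * g⁻¹ ∈ M → g ∈ M) (R : Sylow 2 X) (hR : ∀ r ∈ (R : Subgroup X), z * r = r * z)
    (N : Subgroup X) (hN : M ≤ normalizer (N : Set X)) :
    Cfsg.IsStronglyClosed ((R : Subgroup X) ⊓ N) (R : Subgroup X) := by
  refine ⟨inf_le_left, fun x hx g hg => ⟨hg, ?_⟩⟩
  obtain ⟨m, hm, he⟩ := fusion hz hzM hctl (hR x hx.1) (hR _ hg)
  rw [he]
  exact (mem_normalizer_iff.1 (hN hm) x).1 hx.2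

/-- From "commuting conjugates" to "conjugates in `M`". -/
theorem ctl_of_comm {M : Subgroup X} {z : X} (hz : z * z = 1)
    (hodd : ¬ 2 ∣ (centralizer ({z} : Set X)).relIndex M)
    (hcomm : ∀ g : X, z * (g * z * g⁻¹) = (g * z * g⁻¹) * z → g ∈ M) :
    ∀ g : X, g * z * g⁻¹ ∈ M → g ∈ M := by
  intro g hg
  have h2 : (g * z * g⁻¹) * (g * z * g⁻¹) = 1 := by
    calc (g * z * g⁻¹) * (g * z * g⁻¹) = g * (z * z) * g⁻¹ := by group
      _ = 1 := by rw [hz]; group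
  have hp : IsPGroup 2 (zpowers (g * z * g⁻¹)) := by
    rw [IsPGroup.iff_card, Nat.card_zpowers]
    have h3 : orderOf (g * z * g⁻¹) ∣ 2 := by
      rw [orderOf_dvd_iff_pow_eq_one, pow_two]
      exact h2
    rcases (Nat.dvd_prime Nat.prime_two).1 h3 with h | h
    · exact ⟨0, by rw [h, pow_zero]⟩
    · exact ⟨1, by rw [h, pow_one]⟩
  obtain ⟨m, hm, hmc⟩ := exists_conj_le hp ((zpowers_le).2 hg) hodd
  have h3 := mem_centralizer_singleton_iff.1 (hmc _ (mem_zpowers _))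
  have h4 : m⁻¹ * g ∈ M := by
    apply hcomm
    have e : (m⁻¹ * g) * z * (m⁻¹ * g)⁻¹ = m⁻¹ * (g * z * g⁻¹) * m := by group
    rw [e]; exact h3.symm
  have := mul_mem hm h4
  rwa [mul_inv_cancel_left] at this


/-- A 2-element subgroup is a 2-group. -/
theorem isPGroup_zpowers {z : X} (hz : z * z = 1) : IsPGroup 2 (zpowers z) := by
  have : Fact (Nat.Prime 2) := ⟨Nat.prime_two⟩
  rw [IsPGroup.iff_card, Nat.card_zpowers]
  have h3 : orderOf z ∣ 2 := by
    rw [orderOf_dvd_iff_pow_eq_one, pow_two]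
    exact hz
  rcases (Nat.dvd_prime Nat.prime_two).1 h3 with h | h
  · exact ⟨0, by rw [h, pow_zero]⟩
  · exact ⟨1, by rw [h, pow_one]⟩

/-- There is a Sylow 2-subgroup of `X` inside `M ⊓ C(z)` containing `z`. -/
theorem exists_sylow {M : Subgroup X} {z : X} (hz : z * z = 1) (hzM : z ∈ M)
    (hctl : ∀ g : X, g * z * g⁻¹ ∈ M → g ∈ M) (hodd : ¬ 2 ∣ (centralizer ({z} : Set X)).relIndex M) :
    ∃ R : Sylow 2 X, z ∈ (R : Subgroup X) ∧ (R : Subgroup X) ≤ M ∧ ∀ r ∈ (R : Subgroup X), z * r = r * z := by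
  have : Fact (Nat.Prime 2) := ⟨Nat.prime_two⟩
  obtain ⟨Q, hQ⟩ := (isPGroup_zpowers hz).exists_le_sylow
  have hQM : (Q : Subgroup X) ≤ M := le_of_mem hzM hctl Q.2 (hQ (mem_zpowers z))
  obtain ⟨m, hm, hmc⟩ := exists_conj_le Q.2 hQM hodd
  set R : Sylow 2 X := m⁻¹ • Q with hR
  have hmem : ∀ r, r ∈ (R : Subgroup X) ↔ m * r * m⁻¹ ∈ (Q : Subgroup X) := by
    intro r
    rw [hR, Sylow.coe_subgroup_smul, Subgroup.mem_pointwise_smul_iff_inv_smul_mem]
    simp [MulAut.smul_def]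
  have hcomm : ∀ r ∈ (R : Subgroup X), z * r = r * z := by
    intro r hr
    have h1 := hmc _ ((hmem r).1 hr)
    have e : m⁻¹ * (m * r * m⁻¹) * m = r := by group
    rw [e] at h1
    exact (mem_centralizer_singleton_iff.1 h1).symm
  have hRM : (R : Subgroup X) ≤ M := by
    intro r hr
    have h1 := hQM ((hmem r).1 hr)
    have h2 := mul_mem (mul_mem (inv_mem hm) h1) hm
    have e : m⁻¹ * (m * r * m⁻¹) * m = r := by group
    rwa [e] at h2
  refine ⟨R, ?_, hRM, hcomm⟩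
  -- `z ∈ R`
  have hsup : IsPGroup 2 ((R : Subgroup X) ⊔ zpowers z : Subgroup X) := by
    refine R.2.to_sup_of_normal_right' (isPGroup_zpowers hz) ?_
    intro r hr
    rw [mem_normalizer_iff]
    intro x
    constructor
    · intro hx
      obtain ⟨k, rfl⟩ := mem_zpowers_iff.1 hx
      have h1 : Commute r z := (hcomm r hr).symm
      have h2 : r * z ^ k * r⁻¹ = z ^ k := by
        rw [(h1.zpow_right k).eq]; group
      rw [h2]; exact hx
    · intro hx
      obtain ⟨k, hk⟩ := mem_zpowers_iff.1 hx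
      have h1 : Commute r z := (hcomm r hr).symm
      have h2 : x = z ^ k := by
        have h3 : x = r⁻¹ * z ^ k * r := by rw [hk]; group
        rw [h3, mul_assoc, (h1.zpow_right k).symm.eq]; group
      rw [h2]; exact zpow_mem (mem_zpowers z) k
  have h1 : (R : Subgroup X) = (R : Subgroup X) ⊔ zpowers z :=
    (R.3 hsup le_sup_left).symm
  rw [h1]
  exact mem_sup_right (mem_zpowers z)

/-- **Normality from an isolated involution.** -/
theorem normal {A W : Subgroup X} {z : X} (hO : Cfsg.oddCore X = ⊥) (hW : W ≤ center X) (hW2 : IsPGroup 2 W)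
    (hWA : W ≤ A) (hAW : A ⊓ centralizer (A : Set X) ≤ W) (hz : z * z = 1) (hzA : z ∈ centralizer (A : Set X))
    (hcen : centralizer ({z} : Set X) ≤ normalizer (A : Set X))
    (hodd : ¬ 2 ∣ (centralizer ({z} : Set X)).relIndex (normalizer (A : Set X)))
    (hcomm : ∀ g : X, z * (g * z * g⁻¹) = (g * z * g⁻¹) * z → g ∈ normalizer (A : Set X))
    (hgen : A ≤ closure {a | a ∈ A ∧ IsPGroup 2 (zpowers a)}) : A.Normal := by
  have : Fact (Nat.Prime 2) := ⟨Nat.prime_two⟩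
  set M : Subgroup X := normalizer (A : Set X) with hM
  have hzM : z ∈ M := hcen (mem_centralizer_singleton_iff.2 rfl)
  have hctl := ctl_of_comm hz hodd hcomm
  obtain ⟨R, hzR, hRM, hRz⟩ := exists_sylow hz hzM hctl hodd
  have hWn : W.Normal := ⟨fun w hw g => by
    rw [(mem_center_iff.1 (hW hw) g), mul_inv_cancel_right]; exact hw⟩
  have hCn : M ≤ normalizer ((centralizer (A : Set X) : Subgroup X) : Set X) := by
    intro m hm
    rw [mem_normalizer_iff]
    have key : ∀ n ∈ M, ∀ x ∈ centralizer (A : Set X), n * x * n⁻¹ ∈ centralizer (A : Set X) := by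
      intro n hn x hx
      rw [mem_centralizer_iff]
      intro a ha
      have ha' : n⁻¹ * a * n ∈ A := (mem_normalizer_iff''.1 hn a).1 ha
      have h1 := mem_centralizer_iff.1 hx _ ha'
      calc a * (n * x * n⁻¹) = n * (n⁻¹ * a * n * x) * n⁻¹ := by group
        _ = n * (x * (n⁻¹ * a * n)) * n⁻¹ := by rw [h1]
        _ = n * x * n⁻¹ * a := by group
    intro x
    refine ⟨key m hm x, fun h => ?_⟩
    have h1 := key m⁻¹ (inv_mem hm) _ h
    simpa [mul_assoc] using h1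
  have hs1 := stronglyClosed hz hzM hctl R hRz A le_rfl
  have hs2 := stronglyClosed hz hzM hctl R hRz (centralizer (A : Set X)) hCn
  -- pass to `X / W`
  have hOq : Cfsg.oddCore (X ⧸ W) = ⊥ := Cfsg.Agent.ONType.Cz.oddCore_quotient_central hO W hW hW2
  set π : X →* X ⧸ W := QuotientGroup.mk' W with hπ
  have hπs : Function.Surjective π := QuotientGroup.mk'_surjective W
  set Rq : Sylow 2 (X ⧸ W) := R.mapSurjective hπs with hRq
  have hRqc : (Rq : Subgroup (X ⧸ W)) = (R : Subgroup X).map π := Sylow.coe_mapSurjective hπs R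
  have hq1 := Cfsg.Agent.S1250.result R _ hs1 W
  have hq2 := Cfsg.Agent.S1250.result R _ hs2 W
  rw [← hπ, ← hRqc] at hq1 hq2
  have hdisj : ((R : Subgroup X) ⊓ A).map π ⊓ ((R : Subgroup X) ⊓ centralizer (A : Set X)).map π = ⊥ := by
    rw [eq_bot_iff]
    rintro _ ⟨⟨a, ha, rfl⟩, ⟨b, hb, hab⟩⟩
    have h1 : b⁻¹ * a ∈ W := QuotientGroup.eq.1 hab
    have h2 : a ∈ centralizer (A : Set X) := by
      have h3 : b * (b⁻¹ * a) ∈ centralizer (A : Set X) :=
        mul_mem hb.2 (center_le_centralizer _ (hW h1))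
      rwa [mul_inv_cancel_left] at h3
    rw [mem_bot]
    exact (QuotientGroup.eq_one_iff a).2 (hAW ⟨ha.2, h2⟩)
  have hcommu := Cfsg.Agent.TwoFusion.ClosedCommutator.commutator_le Rq _ _ hdisj hq1 hq2
  rw [hOq] at hcommu
  -- `[g a g⁻¹, z] ∈ W` for 2-elements `a ∈ A`
  have hstep : ∀ g a : X, a ∈ A → IsPGroup 2 (zpowers a) → ⁅g * a * g⁻¹, z⁆ ∈ W := by
    intro g a ha ha2
    have hRidx : ¬ 2 ∣ (R : Subgroup X).relIndex M := by
      intro h
      exact R.not_dvd_index (h.trans (relIndex_dvd_index_of_le hRM))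
    obtain ⟨m, hm, hmc⟩ := exists_conj_le ha2 ((zpowers_le).2 (le_normalizer ha)) hRidx
    have h1 : m⁻¹ * a * m ∈ (R : Subgroup X) ⊓ A :=
      ⟨hmc _ (mem_zpowers a), (mem_normalizer_iff''.1 hm a).1 ha⟩
    have h2 : π (g * a * g⁻¹) ∈ normalClosure ((((R : Subgroup X) ⊓ A).map π : Subgroup (X ⧸ W)) : Set (X ⧸ W)) := by
      have h3 := (normalClosure_normal (s := ((((R : Subgroup X) ⊓ A).map π : Subgroup (X ⧸ W)) : Set (X ⧸ W)))).conj_mem
        (π (m⁻¹ * a * m)) (subset_normalClosure ⟨_, h1, rfl⟩) (π (g * m))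
      have e : π (g * m) * π (m⁻¹ * a * m) * (π (g * m))⁻¹ = π (g * a * g⁻¹) := by
        rw [← map_inv, ← map_mul, ← map_mul]; congr 1; group
      rwa [e] at h3
    have h4 : π z ∈ normalClosure ((((R : Subgroup X) ⊓ centralizer (A : Set X)).map π : Subgroup (X ⧸ W)) : Set (X ⧸ W)) :=
      subset_normalClosure ⟨z, ⟨hzR, hzA⟩, rfl⟩
    have h5 := hcommu (commutator_mem_commutator h2 h4)
    rw [mem_bot, ← map_commutatorElement] at h5
    exact (QuotientGroup.eq_one_iff _).1 h5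
  -- every conjugate of `A` is normalised by `z`
  have hall : ∀ g : X, g ∈ M := by
    intro g
    have key : ∀ x ∈ A, g⁻¹ * z * g * x * (g⁻¹ * z * g)⁻¹ ∈ A := by
      intro x hx
      have hx' := hgen hx
      refine closure_induction (p := fun x _ => g⁻¹ * z * g * x * (g⁻¹ * z * g)⁻¹ ∈ A) ?_ ?_ ?_ ?_ hx'
      · rintro a ⟨ha, ha2⟩
        have h1 := hWn.conj_mem _ (hstep g a ha ha2) g⁻¹
        have e : g⁻¹ * z * g * a * (g⁻¹ * z * g)⁻¹ = (g⁻¹ * ⁅g * a * g⁻¹, z⁆ * g⁻¹⁻¹)⁻¹ * a := by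
          rw [commutatorElement_def]; group
        rw [e]
        exact mul_mem (inv_mem (hWA h1)) ha
      · simp
      · intro a b _ _ ha hb
        have e : g⁻¹ * z * g * (a * b) * (g⁻¹ * z * g)⁻¹ =
            (g⁻¹ * z * g * a * (g⁻¹ * z * g)⁻¹) * (g⁻¹ * z * g * b * (g⁻¹ * z * g)⁻¹) := by group
        rw [e]; exact mul_mem ha hb
      · intro a _ ha
        have e : g⁻¹ * z * g * a⁻¹ * (g⁻¹ * z * g)⁻¹ = (g⁻¹ * z * g * a * (g⁻¹ * z * g)⁻¹)⁻¹ := by group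
        rw [e]; exact inv_mem ha
    have hinv : (g⁻¹ * z * g) * (g⁻¹ * z * g) = 1 := by
      calc (g⁻¹ * z * g) * (g⁻¹ * z * g) = g⁻¹ * (z * z) * g := by group
        _ = 1 := by rw [hz]; group
    have hmem : g⁻¹ * z * g⁻¹⁻¹ ∈ M := by
      rw [inv_inv, hM, mem_normalizer_iff]
      intro x
      refine ⟨key x, fun h => ?_⟩
      have h1 := key _ h
      have hi : (g⁻¹ * z * g)⁻¹ = g⁻¹ * z * g := inv_eq_of_mul_eq_one_left hinv
      have e : g⁻¹ * z * g * (g⁻¹ * z * g * x * (g⁻¹ * z * g)⁻¹) * (g⁻¹ * z * g)⁻¹ =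
          ((g⁻¹ * z * g) * (g⁻¹ * z * g)) * x * ((g⁻¹ * z * g) * (g⁻¹ * z * g))⁻¹ := by group
      rw [e, hinv] at h1
      simpa using h1
    have := hctl g⁻¹ hmem
    simpa using inv_mem this
  exact ⟨fun a ha g => (mem_normalizer_iff.1 (hall g) a).1 ha⟩

end Cfsg.Agent.OddHalf.U2.Core
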