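import Cfsg.Agent.OddHalf.NI.Assemble

/-!
# ODD half, node U2: assembly

`u2`: the node `Iface.U2` from `Missing`:

* `ni`: the facts of node NI for `q > 3` (`NI.Assemble.Facts`);
* `odd`, `even`: the rows of rank at least 2 over the field with 3 elements (`U2.Cut.ThreeOdd`, `U2.Cut.ThreeEven`).
-/

set_option autoImplicit false

namespace Cfsg.Agent.OddHalf.U2.Final

open Subgroup Cfsg Cfsg.Agent.OddHalf.Iface Cfsg.Agent.OddHalf.LieOddFam

universe u

/-- What is missing in U2. -/
structure Missing (S7 : ∀ (N : Type u) [Group N], N → N → Subgroup N → Subgroup N → Subgroup N → Prop) : Prop where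
  ni : NI.Assemble.Facts S7
  odd : Cut.ThreeOdd.{u}
  even : Cut.ThreeEven.{u}

variable {S7 : ∀ (N : Type u) [Group N], N → N → Subgroup N → Subgroup N → Subgroup N → Prop}

/-- **U2**. -/
theorem u2 (M : Missing S7) : Iface.U2.{u} :=
  NI.Assemble.u2_of M.ni (Cut.three_of M.odd M.even)

end Cfsg.Agent.OddHalf.U2.Final
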