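import Mathlib
import Cfsg.Agent.GH.L2AutDih

/-!
# Perfect central extensions by 2-groups: Sylow 2-subgroup dihedral, or elementary abelian

`K` finite and perfect, `f : K → X` surjective with central kernel, a 2-group.

* `mem_commutator`: the kernel lies in the derived subgroup of the preimage of a Sylow 2-subgroup of `X`;
* `dih_cyclic`, `dih_inv`: if a Sylow 2-subgroup of `X` is dihedral (or a four-group) then the kernel is cyclic, and if
  moreover the involutions of `X` are conjugate and the kernel is nontrivial, then all involutions of `K` lie in it;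
* `elem_ker`: if a Sylow 2-subgroup of `X` is elementary abelian of order at least 8 and the involutions of `X` are
  conjugate then the kernel is trivial.
-/

set_option autoImplicit false

namespace Cfsg.Agent.OddHalf.U2.Mul

open Subgroup Cfsg.Agent.GH.L2Aut
open scoped commutatorElement

variable {K : Type*} [Group K] [Finite K] {X : Type*} [Group X]

/-- Transfer: a central 2-element of a perfect group lies in the derived subgroup of every subgroup of odd index. -/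
theorem mem_commutator_of_central (hK : commutator K = ⊤) (P : Subgroup K) (hP : ¬ 2 ∣ P.index) {z : K}
    (hz : ∀ g, g * z = z * g) {n : ℕ} (hn : z ^ 2 ^ n = 1) : z ∈ ⁅P, P⁆ := by
  have h0 : P.FiniteIndex := inferInstance
  have key : ∀ (k : ℕ) (g₀ : K), g₀⁻¹ * z ^ k * g₀ ∈ P → g₀⁻¹ * z ^ k * g₀ = z ^ k := by
    intro k g₀ _
    have h1 : z ^ k * g₀ = g₀ * z ^ k := (Commute.pow_left (hz g₀).symm k : _)
    rw [mul_assoc, h1, inv_mul_cancel_left]
  have h1 := MonoidHom.transfer_eq_pow (Abelianization.of : ↥P →* Abelianization ↥P) z key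
  have h2 : MonoidHom.transfer (Abelianization.of : ↥P →* Abelianization ↥P) z = 1 := by
    have h3 : commutator K ≤ (MonoidHom.transfer (Abelianization.of : ↥P →* Abelianization ↥P)).ker :=
      Abelianization.commutator_subset_ker _
    have h4 : z ∈ commutator K := hK ▸ mem_top z
    exact MonoidHom.mem_ker.mp (h3 h4)
  rw [h2] at h1
  have h3 : (⟨z ^ P.index, MonoidHom.transfer_eq_pow_aux z key⟩ : ↥P) ∈ commutator ↥P := by
    rw [← Abelianization.ker_of]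
    exact h1.symm
  have h4 : z ^ P.index ∈ ⁅P, P⁆ := by
    have h5 := Subgroup.mem_map_of_mem P.subtype h3
    rw [commutator_def, Subgroup.map_commutator, ← MonoidHom.range_eq_map, range_subtype] at h5
    exact h5
  -- the index is odd
  have hcop : Nat.Coprime P.index (2 ^ n) :=
    Nat.Coprime.pow_right n ((Nat.Prime.coprime_iff_not_dvd Nat.prime_two).2 hP).symm
  have hord : orderOf z ∣ 2 ^ n := orderOf_dvd_of_pow_eq_one hn
  have hc2 : Nat.Coprime (orderOf z) P.index := (hcop.coprime_dvd_right hord).symm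
  obtain ⟨m, hm⟩ := exists_pow_eq_self_of_coprime hc2.symm
  rw [← hm]
  exact pow_mem h4 m

section Ext

variable (hK : commutator K = ⊤) (f : K →* X) (hf : Function.Surjective f)
  (hc : ∀ z, f z = 1 → ∀ g, g * z = z * g) (h2 : IsPGroup 2 f.ker)

include hK hf hc h2

theorem mem_commutator (S : Sylow 2 X) {z : K} (hz : f z = 1) :
    z ∈ ⁅(S : Subgroup X).comap f, (S : Subgroup X).comap f⁆ := by
  have : Finite X := Finite.of_surjective f hf
  obtain ⟨n, hn⟩ := h2 ⟨z, MonoidHom.mem_ker.mpr hz⟩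
  refine mem_commutator_of_central hK _ ?_ (hc z hz) (n := n) (congrArg Subtype.val hn)
  rw [Subgroup.index_comap_of_surjective _ hf]
  exact S.not_dvd_index

set_option linter.unusedSectionVars false in
/-- The derived subgroup of the preimage of a dihedral group. -/
theorem dih_commutator {S : Sylow 2 X} {d r : X} (D : Dih (S : Subgroup X) d r) {c ρ ζ : K} (hcd : f c = d)
    (hρ : f ρ = r) (hζ : f ζ = 1) (hr : ρ * c * ρ⁻¹ = c⁻¹ * ζ) :
    ⁅(S : Subgroup X).comap f, (S : Subgroup X).comap f⁆ ≤ zpowers (c ^ 2 * ζ⁻¹) := by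
  have hζc := hc ζ hζ
  set y := c ^ 2 * ζ⁻¹ with hy
  -- conjugation by `c`, `ρ`
  have hcy : Commute c y := by
    refine Commute.mul_right (Commute.pow_right rfl 2) ?_
    exact (Commute.inv_right (hζc c) : _)
  have hcon : ρ * y * ρ⁻¹ = y⁻¹ := by
    have h1 : ρ * ζ⁻¹ * ρ⁻¹ = ζ⁻¹ := by
      have : ρ * ζ⁻¹ = ζ⁻¹ * ρ := Commute.inv_right (hζc ρ)
      rw [this, mul_inv_cancel_right]
    have h3 : (c⁻¹ * ζ) ^ 2 = c⁻¹ ^ 2 * ζ ^ 2 := Commute.mul_pow (hζc c⁻¹) 2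
    calc ρ * y * ρ⁻¹ = (ρ * c * ρ⁻¹) ^ 2 * (ρ * ζ⁻¹ * ρ⁻¹) := by
            rw [hy, conj_pow]; group
      _ = (c⁻¹ * ζ) ^ 2 * ζ⁻¹ := by rw [hr, h1]
      _ = c⁻¹ ^ 2 * ζ := by rw [h3, mul_assoc]; congr 1; group
      _ = y⁻¹ := by
        have h4 : ζ * c⁻¹ ^ 2 = c⁻¹ ^ 2 * ζ := ((hζc (c⁻¹ ^ 2))).symm
        rw [hy, mul_inv_rev, inv_inv, ← h4, inv_pow]
  -- the normal form
  have hform : ∀ g ∈ (S : Subgroup X).comap f, ∃ (i : ℤ) (e : K), f e = 1 ∧ (g = c ^ i * e ∨ g = c ^ i * ρ * e) := by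
    intro g hg
    rcases D.cov _ (mem_comap.mp hg) with h | ⟨k, h⟩
    · obtain ⟨k, hk⟩ := mem_zpowers_iff.mp h
      refine ⟨k, (c ^ k)⁻¹ * g, ?_, Or.inl (by group)⟩
      rw [map_mul, map_inv, map_zpow, hcd, hk, inv_mul_cancel]
    · refine ⟨k, (c ^ k * ρ)⁻¹ * g, ?_, Or.inr (by group)⟩
      rw [map_mul, map_inv, map_mul, map_zpow, hcd, hρ, h, inv_mul_cancel]
  -- `ρ` conjugates powers of `c`
  have hρc : ∀ i : ℤ, ρ * c ^ i * ρ⁻¹ = c ^ i * (y ^ i)⁻¹ := by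
    intro i
    have h1 : ρ * c * ρ⁻¹ = c * y⁻¹ := by
      rw [hr, hy, mul_inv_rev, inv_inv]
      have h4 : ζ * (c ^ 2)⁻¹ = (c ^ 2)⁻¹ * ζ := (hζc _).symm
      rw [h4, ← mul_assoc]; congr 1; group
    rw [← conj_zpow, h1, Commute.mul_zpow (Commute.inv_right hcy), inv_zpow]
  have hym : ∀ i : ℤ, y ^ i ∈ zpowers y := fun i => zpow_mem (mem_zpowers y) i
  -- conjugation by `c ^ i` and `ρ` preserves `zpowers y`
  rw [Subgroup.commutator_le]
  intro g hg h hh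
  obtain ⟨i, e, he, hg'⟩ := hform g hg
  obtain ⟨j, e', he', hh'⟩ := hform h hh
  have hce := hc e he
  have hce' := hc e' he'
  have red : ∀ a b : K, ⁅a * e, b * e'⁆ = ⁅a, b⁆ := by
    intro a b
    rw [commutatorElement_def, commutatorElement_def, mul_inv_rev, mul_inv_rev]
    have h1 : e * (b * e') = b * e' * e := (hce (b * e')).symm
    have h2 : e' * (a⁻¹) = a⁻¹ * e' := (hce' a⁻¹).symm
    calc a * e * (b * e') * (e⁻¹ * a⁻¹) * (e'⁻¹ * b⁻¹)
        = a * (e * (b * e')) * (e⁻¹ * a⁻¹) * (e'⁻¹ * b⁻¹) := by group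
      _ = a * b * (e' * a⁻¹) * (e'⁻¹ * b⁻¹) := by rw [h1]; group
      _ = a * b * a⁻¹ * b⁻¹ := by rw [h2]; group
  have cc : ∀ i j : ℤ, Commute (c ^ i) (c ^ j) := fun i j => (Commute.refl c).zpow_zpow i j
  have cy : ∀ i j : ℤ, Commute (c ^ i) (y ^ j) := fun i j => hcy.zpow_zpow i j
  rcases hg' with rfl | rfl <;> rcases hh' with rfl | rfl <;> rw [red]
  · rw [commutatorElement_eq_one_iff_mul_comm.mpr (cc i j)]
    exact one_mem _
  · have h1 : ⁅c ^ i, c ^ j * ρ⁆ = c ^ j * (c ^ i * (ρ * c ^ i * ρ⁻¹)⁻¹) * (c ^ j)⁻¹ := by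
      rw [commutatorElement_def, mul_inv_rev]
      have : c ^ i * (c ^ j * ρ) = c ^ j * c ^ i * ρ := by rw [← mul_assoc, (cc i j).eq]
      rw [this]; group
    rw [h1, hρc, mul_inv_rev, inv_inv]
    have h3 : c ^ i * (y ^ i * (c ^ i)⁻¹) = y ^ i := by
      rw [← mul_assoc, (cy i i).eq, mul_inv_cancel_right]
    rw [h3, (cy j i).eq, mul_inv_cancel_right]
    exact hym i
  · have h1 : ⁅c ^ i * ρ, c ^ j⁆ = c ^ i * (ρ * c ^ j * ρ⁻¹) * (c ^ i)⁻¹ * (c ^ j)⁻¹ := by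
      rw [commutatorElement_def]; group
    rw [h1, hρc]
    have h3 : c ^ i * (c ^ j * (y ^ j)⁻¹) * (c ^ i)⁻¹ = c ^ j * (y ^ j)⁻¹ := by
      have h4 : Commute (c ^ i) (c ^ j * (y ^ j)⁻¹) := (cc i j).mul_right ((cy i j).inv_right)
      rw [h4.eq, mul_inv_cancel_right]
    rw [h3]
    have h5 : c ^ j * (y ^ j)⁻¹ = (y ^ j)⁻¹ * c ^ j := ((cy j j).inv_right).eq
    rw [h5, mul_inv_cancel_right]
    exact inv_mem (hym j)
  · have h1 : ⁅c ^ i * ρ, c ^ j * ρ⁆ =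
        c ^ i * (ρ * c ^ j * ρ⁻¹) * (ρ * c ^ i * ρ⁻¹)⁻¹ * (c ^ j)⁻¹ := by
      rw [commutatorElement_def]; group
    rw [h1, hρc, hρc, mul_inv_rev, inv_inv]
    have h3 : c ^ i * (c ^ j * (y ^ j)⁻¹) * (y ^ i * (c ^ i)⁻¹) * (c ^ j)⁻¹ = (y ^ j)⁻¹ * y ^ i := by
      have h4 : Commute (c ^ i * c ^ j) ((y ^ j)⁻¹ * y ^ i) := by
        refine Commute.mul_left ?_ ?_
        · exact ((cy i j).inv_right).mul_right (cy i i)
        · exact ((cy j j).inv_right).mul_right (cy j i)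
      calc c ^ i * (c ^ j * (y ^ j)⁻¹) * (y ^ i * (c ^ i)⁻¹) * (c ^ j)⁻¹
          = (c ^ i * c ^ j) * ((y ^ j)⁻¹ * y ^ i) * (c ^ j * c ^ i)⁻¹ := by group
        _ = ((y ^ j)⁻¹ * y ^ i) * (c ^ i * c ^ j) * (c ^ j * c ^ i)⁻¹ := by rw [h4.eq]
        _ = (y ^ j)⁻¹ * y ^ i := by rw [(cc i j).eq, mul_inv_cancel_right]
    rw [h3]
    exact mul_mem (inv_mem (hym j)) (hym i)

/-- The kernel is cyclic. -/
theorem dih_cyclic {S : Sylow 2 X} {d r : X} (D : Dih (S : Subgroup X) d r) :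
    ∃ y : K, ∀ z, f z = 1 → z ∈ zpowers y := by
  obtain ⟨c, hcd⟩ := hf d
  obtain ⟨ρ, hρ⟩ := hf r
  have h1 : f (c * (ρ * c * ρ⁻¹)) = 1 := by
    rw [map_mul, map_mul, map_mul, map_inv, hcd, hρ, D.rd, mul_inv_cancel]
  refine ⟨_, fun z hz => dih_commutator hK f hf hc h2 D hcd hρ h1 (by group) (mem_commutator hK f hf hc h2 S hz)⟩

/-- If a noncentral element has square 1 then the kernel is trivial. -/
theorem dih_inv {S : Sylow 2 X} {d r : X} (D : Dih (S : Subgroup X) d r)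
    (hconj : ∀ s t : X, s * s = 1 → s ≠ 1 → t * t = 1 → t ≠ 1 → ∃ g : X, g * s * g⁻¹ = t)
    {u : K} (hu : u * u = 1) (hu1 : f u ≠ 1) : ∀ z, f z = 1 → z = 1 := by
  have : Finite X := Finite.of_surjective f hf
  -- involutions of `X` lift to involutions
  have lift : ∀ t : X, t * t = 1 → t ≠ 1 → ∃ a : K, f a = t ∧ a * a = 1 := by
    intro t ht ht1
    obtain ⟨g, hg⟩ := hconj (f u) t (by rw [← map_mul, hu, map_one]) hu1 ht ht1
    obtain ⟨g', rfl⟩ := hf g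
    refine ⟨g' * u * g'⁻¹, by rw [map_mul, map_mul, map_inv, hg], ?_⟩
    calc g' * u * g'⁻¹ * (g' * u * g'⁻¹) = g' * (u * u) * g'⁻¹ := by group
      _ = 1 := by rw [hu, mul_one, mul_inv_cancel]
  obtain ⟨ρ, hρ, hρ2⟩ := lift r D.rr D.r1
  have hdr : d * r * (d * r) = 1 := by
    have h := D.pow_r_sq 1
    rwa [zpow_one] at h
  have hdr1 : d * r ≠ 1 := by
    intro h
    apply D.r_not
    have h3 : r = d⁻¹ := (eq_inv_of_mul_eq_one_right h)
    rw [h3]
    exact inv_mem (mem_zpowers d)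
  obtain ⟨β, hβ, hβ2⟩ := lift (d * r) hdr hdr1
  set c := β * ρ with hcdef
  have hcd : f c = d := by
    rw [hcdef, map_mul, hβ, hρ, mul_assoc, D.rr, mul_one]
  have hρi : ρ⁻¹ = ρ := inv_eq_of_mul_eq_one_right hρ2
  have hβi : β⁻¹ = β := inv_eq_of_mul_eq_one_right hβ2
  have hr : ρ * c * ρ⁻¹ = c⁻¹ * 1 := by
    rw [hcdef, mul_one, mul_inv_rev, hρi, hβi]
    calc ρ * (β * ρ) * ρ = ρ * β * (ρ * ρ) := by group
      _ = ρ * β := by rw [hρ2, mul_one]
  have hZ : ∀ z, f z = 1 → z ∈ zpowers (c ^ 2) := by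
    intro z hz
    have h := dih_commutator hK f hf hc h2 D hcd hρ (map_one f) hr (mem_commutator hK f hf hc h2 S hz)
    rwa [inv_one, mul_one] at h
  -- the order of `d` is even
  obtain ⟨k, hk⟩ : ∃ k, orderOf d = 2 ^ k := by
    obtain ⟨n, hn⟩ := S.isPGroup' ⟨d, D.d_mem⟩
    have h3 : d ^ 2 ^ n = 1 := congrArg Subtype.val hn
    obtain ⟨k, -, hk⟩ := (Nat.dvd_prime_pow Nat.prime_two).mp (orderOf_dvd_of_pow_eq_one h3)
    exact ⟨k, hk⟩
  have hk0 : k ≠ 0 := by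
    rintro rfl
    exact D.d1 (orderOf_eq_one_iff.mp (by rw [hk, pow_zero]))
  obtain ⟨m, rfl⟩ := Nat.exists_eq_succ_of_ne_zero hk0
  -- the involution `d ^ 2 ^ m`
  have ht : d ^ 2 ^ m * d ^ 2 ^ m = 1 := by
    rw [← pow_add, ← two_mul, ← pow_succ', ← Nat.succ_eq_add_one, ← hk, pow_orderOf_eq_one]
  have ht1 : d ^ 2 ^ m ≠ 1 := by
    intro h
    have h3 := orderOf_dvd_of_pow_eq_one h
    rw [hk, Nat.pow_dvd_pow_iff_le_right (by norm_num)] at h3
    omega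
  obtain ⟨τ, hτ, hτ2⟩ := lift _ ht ht1
  set z0 := τ⁻¹ * c ^ 2 ^ m with hz0
  have hz01 : f z0 = 1 := by rw [hz0, map_mul, map_inv, hτ, map_pow, hcd, inv_mul_cancel]
  have hcm : c ^ 2 ^ (m + 1) = z0 ^ 2 := by
    have h3 : c ^ 2 ^ m = τ * z0 := by rw [hz0]; group
    rw [pow_succ, pow_mul, h3, Commute.mul_pow (hc z0 hz01 τ), sq τ, hτ2, one_mul]
  -- the kernel is generated by `z0 ^ 2`
  have hZ2 : ∀ z, f z = 1 → z ∈ zpowers (z0 ^ 2) := by
    intro z hz
    obtain ⟨i, hi⟩ := mem_zpowers_iff.mp (hZ z hz)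
    have h3 : d ^ (2 * i) = 1 := by
      rw [← hz, ← hi, map_zpow, map_pow, hcd, zpow_mul]; norm_cast
    have h4 : ((2 ^ (m + 1) : ℕ) : ℤ) ∣ 2 * i := by
      have := orderOf_dvd_iff_zpow_eq_one.mpr h3
      rwa [hk] at this
    obtain ⟨j, hj⟩ := h4
    rw [mem_zpowers_iff]
    refine ⟨j, ?_⟩
    rw [← hcm, ← hi, ← zpow_natCast c 2, ← zpow_mul, ← zpow_natCast c, ← zpow_mul]
    congr 1
    exact hj.symm
  -- so `z0 = 1`
  have hz1 : z0 = 1 := by
    obtain ⟨j, hj⟩ := mem_zpowers_iff.mp (hZ2 z0 hz01)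
    obtain ⟨n, hn⟩ := h2 ⟨z0, MonoidHom.mem_ker.mpr hz01⟩
    have hn' : z0 ^ 2 ^ n = 1 := congrArg Subtype.val hn
    have h3 : z0 ^ (2 * j - 1) = 1 := by
      rw [zpow_sub, zpow_one, zpow_mul, zpow_ofNat, hj, mul_inv_cancel]
    have h4 : (orderOf z0 : ℤ) ∣ 2 * j - 1 := orderOf_dvd_iff_zpow_eq_one.mpr h3
    obtain ⟨l, -, hl⟩ := (Nat.dvd_prime_pow Nat.prime_two).mp (orderOf_dvd_of_pow_eq_one hn')
    rw [hl] at h4
    rcases Nat.eq_zero_or_pos l with rfl | hl0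
    · exact orderOf_eq_one_iff.mp (by rw [hl, pow_zero])
    · exfalso
      have h5 : (2 : ℤ) ∣ ((2 ^ l : ℕ) : ℤ) := by
        push_cast
        exact dvd_pow_self 2 (by omega)
      have h6 := h5.trans h4
      omega
  intro z hz
  have h3 := hZ2 z hz
  rw [hz1, one_pow, zpowers_one_eq_bot, mem_bot] at h3
  exact h3

set_option linter.unusedSectionVars false in
/-- A Sylow 2-subgroup of `X` is elementary abelian of order at least 8 and the involutions are conjugate: the kernel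
is trivial. -/
theorem elem_ker {S : Sylow 2 X} (hS : ∀ s ∈ (S : Subgroup X), s * s = 1) (h8 : 8 ≤ Nat.card ↥(S : Subgroup X))
    (hconj : ∀ s t : X, s * s = 1 → s ≠ 1 → t * t = 1 → t ≠ 1 → ∃ g : X, g * s * g⁻¹ = t) :
    ∀ z, f z = 1 → z = 1 := by
  classical
  have : Finite X := Finite.of_surjective f hf
  have pick : ∀ T : Finset X, T.card < 8 → ∃ s ∈ (S : Subgroup X), s ∉ T := by
    intro T hT
    by_contra hcon
    push Not at hcon
    have h1 : Nat.card ↥(S : Subgroup X) ≤ Nat.card ↥T :=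
      Nat.card_le_card_of_injective (fun s : ↥(S : Subgroup X) => (⟨s, hcon s s.2⟩ : ↥T)) (by
        intro s t hst
        exact Subtype.ext (congrArg (fun x : ↥T => (x : X)) hst))
    have h3 : Nat.card ↥T = T.card := by rw [Nat.card_eq_fintype_card, Fintype.card_coe]
    omega
  obtain ⟨a', haS, ha⟩ := pick {1} (by simp)
  obtain ⟨b', hbS, hb⟩ := pick {1, a'} (by
    calc _ ≤ 2 := Finset.card_le_two
      _ < 8 := by norm_num)
  obtain ⟨c', hcS, hcc⟩ := pick {1, a', b', a' * b'} (by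
    calc _ ≤ 4 := Finset.card_le_four
      _ < 8 := by norm_num)
  simp only [Finset.mem_insert, Finset.mem_singleton, not_or] at ha hb hcc
  obtain ⟨hc1, hca, hcb, hcab⟩ := hcc
  obtain ⟨a, rfl⟩ := hf a'
  obtain ⟨b, rfl⟩ := hf b'
  obtain ⟨c, rfl⟩ := hf c'
  -- squares of elements outside the kernel
  set e := a * a with he
  have hae : f e = 1 := by rw [he, map_mul, hS _ haS]
  have hZ := hc
  have sq : ∀ x, f x ≠ 1 → f x * f x = 1 → ∃ w, f w = 1 ∧ x * x = e * (w * w) := by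
    intro x hx hx2
    obtain ⟨g, hg⟩ := hconj (f a) (f x) (hS _ haS) ha hx2 hx
    obtain ⟨g', rfl⟩ := hf g
    refine ⟨(g' * a * g'⁻¹)⁻¹ * x, ?_, ?_⟩
    · rw [map_mul, map_inv, map_mul, map_mul, map_inv, hg, inv_mul_cancel]
    · set w := (g' * a * g'⁻¹)⁻¹ * x with hw
      have hw1 : f w = 1 := by rw [hw, map_mul, map_inv, map_mul, map_mul, map_inv, hg, inv_mul_cancel]
      have hx' : x = g' * a * g'⁻¹ * w := by rw [hw]; group
      have h1 : w * (g' * a * g'⁻¹) = g' * a * g'⁻¹ * w := ((hZ w hw1) _).symm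
      calc x * x = g' * a * g'⁻¹ * (w * (g' * a * g'⁻¹)) * w := by rw [hx']; group
        _ = g' * e * g'⁻¹ * (w * w) := by rw [h1, he]; group
        _ = e * (w * w) := by rw [hZ e hae, mul_inv_cancel_right]
  -- commutators
  have comm : ∀ x y : K, f x ≠ 1 → f y ≠ 1 → f x * f y ≠ 1 → f x * f x = 1 → f y * f y = 1 →
      f x * f y * (f x * f y) = 1 → ∃ w, f w = 1 ∧ ⁅y, x⁆ = e⁻¹ * (w * w) := by
    intro x y hx hy hxy hx2 hy2 hxy2
    obtain ⟨w1, h1, h1'⟩ := sq x hx hx2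
    obtain ⟨w2, h2', h2''⟩ := sq y hy hy2
    obtain ⟨w3, h3, h3'⟩ := sq (x * y) (by rwa [map_mul]) (by rwa [map_mul])
    -- `⁅y,x⁆` is in the kernel
    have hk : f ⁅y, x⁆ = 1 := by
      have h4 : f y * f x = f x * f y := by
        have h5 : f x * f y = (f x * f y)⁻¹ := (inv_eq_of_mul_eq_one_left hxy2).symm
        rw [h5, mul_inv_rev, inv_eq_of_mul_eq_one_left hx2, inv_eq_of_mul_eq_one_left hy2]
      rw [map_commutatorElement, commutatorElement_eq_one_iff_mul_comm, h4]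
    have hkc := hZ _ hk
    have h5 : x * y * (x * y) = ⁅y, x⁆ * (x * x) * (y * y) := by
      have h6 : y * x = ⁅y, x⁆ * (x * y) := by rw [commutatorElement_def]; group
      calc x * y * (x * y) = x * (y * x) * y := by group
        _ = x * ⁅y, x⁆ * (x * y) * y := by rw [h6]; group
        _ = ⁅y, x⁆ * x * (x * y) * y := by rw [hkc x]
        _ = _ := by group
    have w12 : w1 * w2 = w2 * w1 := (hZ w1 h1 w2).symm
    have w13 : w1 * w3 = w3 * w1 := (hZ w1 h1 w3).symm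
    have w23 : w2 * w3 = w3 * w2 := (hZ w2 h2' w3).symm
    refine ⟨w3 * w1⁻¹ * w2⁻¹, by rw [map_mul, map_mul, map_inv, map_inv, h1, h2', h3]; group, ?_⟩
    have h7 : ⁅y, x⁆ = x * y * (x * y) * (y * y)⁻¹ * (x * x)⁻¹ := by rw [h5]; group
    rw [h7, h3', h1', h2'']
    have ce : ∀ g, g * e = e * g := hZ e hae
    have E1 : Commute e w1 := (ce w1).symm
    have E2 : Commute e w2 := (ce w2).symm
    have E3 : Commute e w3 := (ce w3).symm
    have C12 : Commute w1 w2 := w12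
    have C13 : Commute w1 w3 := w13
    have C23 : Commute w2 w3 := w23
    have h8 : w3 * w1⁻¹ * w2⁻¹ * (w3 * w1⁻¹ * w2⁻¹) = (w3 * w3) * (w1 * w1)⁻¹ * (w2 * w2)⁻¹ := by
      have a1 : Commute (w1⁻¹ * w2⁻¹) w3 := (C13.inv_left).mul_left (C23.inv_left)
      have a2 : Commute (w2⁻¹) (w1⁻¹) := C12.symm.inv_inv
      calc w3 * w1⁻¹ * w2⁻¹ * (w3 * w1⁻¹ * w2⁻¹) = w3 * ((w1⁻¹ * w2⁻¹) * w3) * (w1⁻¹ * w2⁻¹) := by group
        _ = w3 * w3 * (w1⁻¹ * (w2⁻¹ * w1⁻¹) * w2⁻¹) := by rw [a1.eq]; group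
        _ = w3 * w3 * (w1⁻¹ * (w1⁻¹ * w2⁻¹) * w2⁻¹) := by rw [a2.eq]
        _ = _ := by group
    rw [h8]
    have b1 : Commute (w3 * w3) e := (E3.mul_right E3).symm
    have b2 : Commute ((w2 * w2)⁻¹) e⁻¹ := ((E2.mul_right E2).symm.inv_inv)
    have b3 : Commute ((w2 * w2)⁻¹) ((w1 * w1)⁻¹) :=
      ((C12.symm.mul_right C12.symm).mul_left (C12.symm.mul_right C12.symm)).inv_inv
    have b4 : Commute ((w3 * w3) * (w2 * w2)⁻¹) e⁻¹ := (b1.inv_right).mul_left b2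
    have b5 : Commute ((w1 * w1)⁻¹) e⁻¹ := ((E1.mul_right E1).symm.inv_inv)
    calc e * (w3 * w3) * (e * (w2 * w2))⁻¹ * (e * (w1 * w1))⁻¹
        = (e * (w3 * w3) * (w2 * w2)⁻¹ * e⁻¹) * ((w1 * w1)⁻¹ * e⁻¹) := by group
      _ = (e * ((w3 * w3) * (w2 * w2)⁻¹) * e⁻¹) * ((w1 * w1)⁻¹ * e⁻¹) := by group
      _ = (w3 * w3) * (w2 * w2)⁻¹ * ((w1 * w1)⁻¹ * e⁻¹) := by
          rw [mul_assoc e, b4.eq, mul_inv_cancel_left]
      _ = (w3 * w3) * ((w2 * w2)⁻¹ * (w1 * w1)⁻¹) * e⁻¹ := by group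
      _ = ((w3 * w3) * (w1 * w1)⁻¹ * (w2 * w2)⁻¹) * e⁻¹ := by rw [b3.eq]; group
      _ = e⁻¹ * ((w3 * w3) * (w1 * w1)⁻¹ * (w2 * w2)⁻¹) := by
          have b6 : Commute ((w3 * w3) * (w1 * w1)⁻¹ * (w2 * w2)⁻¹) e⁻¹ :=
            ((b1.inv_right).mul_left b5).mul_left b2
          exact b6.eq
  -- `e` is a square
  have hS2 : ∀ x y : X, x ∈ (S : Subgroup X) → y ∈ (S : Subgroup X) → x * y * (x * y) = 1 :=
    fun x y hx hy => hS _ (mul_mem hx hy)
  have inv' : ∀ x : X, x ∈ (S : Subgroup X) → x⁻¹ = x := fun x hx => inv_eq_of_mul_eq_one_left (hS x hx)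
  have hab1 : f a * f b ≠ 1 := fun h => hb.2 (by rw [← inv_eq_of_mul_eq_one_right h, inv' _ haS])
  have hac1 : f a * f c ≠ 1 := fun h => hca (by rw [← inv_eq_of_mul_eq_one_right h, inv' _ haS])
  have hbc1 : f b * f c ≠ 1 := fun h => hcb (by rw [← inv_eq_of_mul_eq_one_right h, inv' _ hbS])
  have habc1 : f a * (f b * f c) ≠ 1 := fun h => hcab (by
    rw [← mul_assoc] at h
    rw [← inv_eq_of_mul_eq_one_right h, inv' _ (mul_mem haS hbS)])
  obtain ⟨u1, hu1, hu1'⟩ := comm a b ha hb.1 hab1 (hS _ haS) (hS _ hbS) (hS2 _ _ haS hbS)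
  obtain ⟨u2, hu2, hu2'⟩ := comm a c ha hc1 hac1 (hS _ haS) (hS _ hcS) (hS2 _ _ haS hcS)
  obtain ⟨u3, hu3, hu3'⟩ := comm a (b * c) ha (by rwa [map_mul]) (by rwa [map_mul])
    (hS _ haS) (by rw [map_mul]; exact hS2 _ _ hbS hcS)
    (by rw [map_mul]; exact hS2 _ _ haS (mul_mem hbS hcS))
  have hkca : ∀ g, g * ⁅c, a⁆ = ⁅c, a⁆ * g := by
    rw [hu2']
    exact hZ _ (by rw [map_mul, map_inv, hae, map_mul, hu2]; group)
  have h9 : ⁅b * c, a⁆ = ⁅b, a⁆ * ⁅c, a⁆ := by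
    calc ⁅b * c, a⁆ = b * ⁅c, a⁆ * (a * b⁻¹ * a⁻¹) := by
          rw [commutatorElement_def, commutatorElement_def]; group
      _ = ⁅c, a⁆ * ⁅b, a⁆ := by rw [hkca b, commutatorElement_def b a]; group
      _ = ⁅b, a⁆ * ⁅c, a⁆ := (hkca _).symm
  rw [hu3', hu1', hu2'] at h9
  -- `e = w * w` with `w` in the kernel
  obtain ⟨w, hw, hew⟩ : ∃ w, f w = 1 ∧ e = w * w := by
    refine ⟨u1 * u2 * u3⁻¹, by rw [map_mul, map_mul, map_inv, hu1, hu2, hu3]; group, ?_⟩
    have E1 : Commute e u1 := (hZ e hae u1).symm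
    have E2 : Commute e u2 := (hZ e hae u2).symm
    have C12 : Commute u1 u2 := (hZ u1 hu1 u2).symm
    have C13 : Commute u1 u3 := (hZ u1 hu1 u3).symm
    have C23 : Commute u2 u3 := (hZ u2 hu2 u3).symm
    have h10 : e * (u3 * u3) = (u1 * u1) * (u2 * u2) := by
      have h11 : e * (e * (e⁻¹ * (u3 * u3))) = e * (e * (e⁻¹ * (u1 * u1) * (e⁻¹ * (u2 * u2)))) := by rw [h9]
      have h12 : e * (e * (e⁻¹ * (u3 * u3))) = e * (u3 * u3) := by group
      have h13 : e * (e * (e⁻¹ * (u1 * u1) * (e⁻¹ * (u2 * u2)))) = (u1 * u1) * (u2 * u2) := by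
        have : (u1 * u1) * e⁻¹ = e⁻¹ * (u1 * u1) := ((E1.mul_right E1).symm.inv_right).eq
        calc _ = e * ((u1 * u1) * e⁻¹) * (u2 * u2) := by group
          _ = _ := by rw [this]; group
      rw [h12, h13] at h11
      exact h11
    have h14 : e = (u1 * u1) * (u2 * u2) * (u3 * u3)⁻¹ := by rw [← h10]; group
    rw [h14]
    have a1 : Commute (u3⁻¹) (u1 * u2) := ((C13.symm.inv_left).mul_right (C23.symm.inv_left))
    calc u1 * u1 * (u2 * u2) * (u3 * u3)⁻¹ = u1 * (u1 * u2) * u2 * (u3⁻¹ * u3⁻¹) := by group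
      _ = u1 * (u2 * u1) * u2 * (u3⁻¹ * u3⁻¹) := by rw [C12.eq]
      _ = (u1 * u2) * ((u1 * u2) * u3⁻¹) * u3⁻¹ := by group
      _ = (u1 * u2) * (u3⁻¹ * (u1 * u2)) * u3⁻¹ := by rw [a1.eq]
      _ = u1 * u2 * u3⁻¹ * (u1 * u2 * u3⁻¹) := by group
  -- the squares of the kernel
  let Q : Subgroup K :=
    { carrier := {z | ∃ w, f w = 1 ∧ z = w * w}
      one_mem' := ⟨1, map_one f, by group⟩
      mul_mem' := by
        rintro _ _ ⟨w1, h1, rfl⟩ ⟨w2, h2, rfl⟩
        refine ⟨w1 * w2, by rw [map_mul, h1, h2, one_mul], ?_⟩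
        have : w1 * w2 = w2 * w1 := hZ w2 h2 w1
        calc w1 * w1 * (w2 * w2) = w1 * (w1 * w2) * w2 := by group
          _ = w1 * (w2 * w1) * w2 := by rw [this]
          _ = _ := by group
      inv_mem' := by
        rintro _ ⟨w1, h1, rfl⟩
        exact ⟨w1⁻¹, by rw [map_inv, h1, inv_one], by group⟩ }
  have heQ : e ∈ Q := ⟨w, hw, hew⟩
  have hPQ : ⁅(S : Subgroup X).comap f, (S : Subgroup X).comap f⁆ ≤ Q := by
    rw [Subgroup.commutator_le]
    intro y hy x hx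
    have hy' : f y ∈ (S : Subgroup X) := hy
    have hx' : f x ∈ (S : Subgroup X) := hx
    by_cases h1 : f x = 1
    · rw [commutatorElement_eq_one_iff_mul_comm.mpr (hZ x h1 y)]
      exact one_mem _
    by_cases h2 : f y = 1
    · rw [commutatorElement_eq_one_iff_mul_comm.mpr (hZ y h2 x).symm]
      exact one_mem _
    by_cases h3 : f x * f y = 1
    · have h4 : f (x * y) = 1 := by rw [map_mul, h3]
      have h5 := hZ _ h4 x
      have h6 : y * x = x * y := by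
        have h7 : x * (x * y) = x * (y * x) := by rw [h5]; group
        exact (mul_left_cancel h7).symm
      rw [commutatorElement_eq_one_iff_mul_comm.mpr h6]
      exact one_mem _
    obtain ⟨w', hw', h⟩ := comm x y h1 h2 h3 (hS _ hx') (hS _ hy') (hS2 _ _ hx' hy')
    rw [h]
    exact mul_mem (inv_mem heQ) ⟨w', hw', rfl⟩
  -- squaring is surjective on the kernel
  have hsurj : Function.Surjective (fun z : f.ker => z * z) := by
    rintro ⟨z, hz⟩
    obtain ⟨w', hw', h⟩ := hPQ (mem_commutator hK f hf hc h2 S (MonoidHom.mem_ker.mp hz))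
    exact ⟨⟨w', MonoidHom.mem_ker.mpr hw'⟩, Subtype.ext h.symm⟩
  have hinj := Finite.injective_iff_surjective.mpr hsurj
  intro z hz
  obtain ⟨n, hn⟩ := h2 ⟨z, MonoidHom.mem_ker.mpr hz⟩
  have key : ∀ n : ℕ, ∀ z : f.ker, z ^ 2 ^ n = 1 → z = 1 := by
    intro n
    induction n with
    | zero => intro z h; simpa using h
    | succ n ih =>
      intro z h
      apply ih
      apply hinj
      show z ^ 2 ^ n * z ^ 2 ^ n = 1 * 1
      rw [← pow_add, ← two_mul, ← pow_succ', h, one_mul]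
  exact congrArg Subtype.val (key n _ hn)

end Ext

end Cfsg.Agent.OddHalf.U2.Mul
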