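import Cfsg.Agent.OddHalf.U2.Cut
import Cfsg.Agent.OddHalf.U2.Mul
import Cfsg.Agent.GH.L2AutSyl
import Cfsg.Agent.Ree.Reduce
import Cfsg.Agent.S1152
import Cfsg.Agent.S1157

/-!
# The multiplier facts of `U2.Cut.Mult`

* `rank_l2`: a perfect group whose centre is a nontrivial 2-group and whose central quotient is `PSL(2,q)`, `q` odd,
  `q > 3`, has 2-rank 1;
* `center_ree`: ... Ree group: the centre is trivial;
* `mult`: `U2.Cut.Mult`.
-/

set_option autoImplicit false

namespace Cfsg.Agent.OddHalf.U2.MulL2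

open Subgroup Cfsg Cfsg.Agent.OddHalf.U2.Mul Cfsg.Agent.GH.L2Aut

universe u

variable {K : Type u} [Group K] [Finite K]

omit [Finite K] in
theorem mk_central (z : K) (hz : (QuotientGroup.mk' (center K)) z = 1) (g : K) : g * z = z * g := by
  have h : z ∈ center K := by
    rw [← QuotientGroup.ker_mk' (center K)]
    exact MonoidHom.mem_ker.mpr hz
  exact mem_center_iff.mp h g

omit [Finite K] in
theorem mk_ker (h2 : IsPGroup 2 ↥(center K)) : IsPGroup 2 (QuotientGroup.mk' (center K)).ker := by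
  rw [QuotientGroup.ker_mk']
  exact h2

/-- `PSL(2,q)`, `q` odd. -/
theorem rank_l2 {F : Type*} [Field F] [Finite F] (hK : commutator K = ⊤) (h2 : IsPGroup 2 ↥(center K))
    (hz : center K ≠ ⊥) (R : Cfsg.Agent.GH.L2Aut.Rep F (K ⧸ center K)) : PRankLE 2 1 K := by
  classical
  let f := QuotientGroup.mk' (center K)
  have hf : Function.Surjective f := QuotientGroup.mk'_surjective _
  obtain ⟨S⟩ : Nonempty (Sylow 2 (K ⧸ center K)) := inferInstance
  obtain ⟨d, r, D⟩ := R.exists_dih S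
  have hker : ∀ z, z ∈ center K → f z = 1 := fun z hz => (QuotientGroup.eq_one_iff z).mpr hz
  intro A hA hA2
  -- `A` is contained in the centre
  have hAZ : A ≤ center K := by
    intro x hx
    by_contra hxZ
    apply hz
    rw [eq_bot_iff]
    intro z hz'
    have hx1 : f x ≠ 1 := fun h => hxZ ((QuotientGroup.eq_one_iff x).mp h)
    exact dih_inv hK f hf mk_central (mk_ker h2) D (fun s t h1 h2 h3 h4 => R.inv_conj h1 h2 h3 h4)
      (by rw [← sq]; exact hA2 x hx) hx1 z (hker z hz')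
  obtain ⟨y, hy⟩ := dih_cyclic hK f hf mk_central (mk_ker h2) D
  have hAy : A ≤ zpowers y := fun x hx => hy x (hker x (hAZ hx))
  have hcyc : IsCyclic ↥A := by
    have : IsCyclic ↥(zpowers y) := inferInstance
    exact isCyclic_of_injective (inclusion hAy) (inclusion_injective hAy)
  obtain ⟨g, hg⟩ := hcyc.exists_zpow_surjective
  have h3 : Nat.card ↥A = orderOf g := (orderOf_eq_card_of_forall_mem_zpowers (fun x => by
    obtain ⟨k, hk⟩ := hg x
    exact ⟨k, hk⟩)).symm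
  rw [h3]
  exact Nat.le_of_dvd (by norm_num) (orderOf_dvd_of_pow_eq_one (Subtype.ext (by
    rw [pow_one]
    exact hA2 _ g.2)))

/-- Ree groups. -/
theorem center_ree (hK : commutator K = ⊤) (hs : IsSimpleGroup (K ⧸ center K)) (h2 : IsPGroup 2 ↥(center K))
    (hR : Lie.IsoRee (K ⧸ center K)) : center K = ⊥ := by
  obtain ⟨E, iE, iE', m, hm, hE, ⟨e⟩⟩ := hR
  obtain ⟨a, haH, ha1, ha2⟩ := Cfsg.Agent.S1157.exists_involution hE
  obtain ⟨⟨ε⟩, hS⟩ := Cfsg.Agent.S1152.result hE a haH ha1 ha2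
  have hfin : Finite ↥(Cfsg.Lie.twistedG2 E (3 ^ m)) := Finite.of_equiv _ e.toEquiv
  have hsim : IsSimpleGroup ↥(Cfsg.Lie.twistedG2 E (3 ^ m)) := by
    have : Nontrivial ↥(Cfsg.Lie.twistedG2 E (3 ^ m)) := e.symm.toEquiv.nontrivial
    exact IsSimpleGroup.isSimpleGroup_of_surjective e.toMonoidHom e.surjective
  have hab : ∀ P : Sylow 2 ↥(Cfsg.Lie.twistedG2 E (3 ^ m)), ∀ a b : P, a * b = b * a := by
    intro P a b
    have h1 : ∀ x : P, x * x = 1 := fun x => Subtype.ext ((hS P).2 x x.2)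
    have h3 : ∀ x : P, x⁻¹ = x := fun x => inv_eq_of_mul_eq_one_left (h1 x)
    calc a * b = (a * b)⁻¹ := (h3 _).symm
      _ = b * a := by rw [mul_inv_rev, h3, h3]
  have ho : orderOf a = 2 := orderOf_eq_prime (by rw [sq, ha2]) ha1
  have hodd : Odd (Fintype.card E) := by rw [hE]; exact Odd.pow (by decide)
  have h8 : Fintype.card E % 8 = 3 ∨ Fintype.card E % 8 = 5 := by
    left
    rw [hE, pow_succ, pow_mul]
    have h9 : (3 ^ 2) ^ m % 8 = 1 := by
      rw [Nat.pow_mod]; norm_num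
    omega
  obtain ⟨T, hT⟩ := Cfsg.Agent.Ree.Reduce.out_of_odd hab a ho ε hodd h8
  have hconj : ∀ s t : ↥(Cfsg.Lie.twistedG2 E (3 ^ m)), s * s = 1 → s ≠ 1 → t * t = 1 → t ≠ 1 →
      ∃ g, g * s * g⁻¹ = t := by
    intro s t hs hs1 ht ht1
    have h3 := hT.conj s (orderOf_eq_prime (by rw [sq, hs]) hs1)
    have h4 := hT.conj t (orderOf_eq_prime (by rw [sq, ht]) ht1)
    exact isConj_iff.mp (h3.symm.trans h4)
  let f : K →* ↥(Cfsg.Lie.twistedG2 E (3 ^ m)) := e.toMonoidHom.comp (QuotientGroup.mk' (center K))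
  have hf : Function.Surjective f := e.surjective.comp (QuotientGroup.mk'_surjective _)
  have hf1 : ∀ z, f z = 1 ↔ z ∈ center K := by
    intro z
    show e (QuotientGroup.mk' (center K) z) = 1 ↔ _
    rw [EmbeddingLike.map_eq_one_iff, QuotientGroup.mk'_apply, QuotientGroup.eq_one_iff]
  have hker : f.ker = center K := by
    ext z
    rw [MonoidHom.mem_ker, hf1]
  rw [eq_bot_iff]
  intro z hz
  exact elem_ker hK f hf (fun z hz g => mem_center_iff.mp ((hf1 z).mp hz) g) (by rw [hker]; exact h2)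
    (S := T) (fun s hs => (hS T).2 s hs) (hS T).1.ge hconj z ((hf1 z).mpr hz)

/-- **The multiplier facts.** -/
theorem mult : Cut.Mult.{u} where
  l2 := by
    rintro K _ ⟨hfin, hq, h2, hz⟩ h
    have hperf : commutator K = ⊤ := hq.1.commutator_eq_top
    rcases h with ⟨F, _, _, h1, ⟨e⟩⟩ | ⟨F, _, _, h1, h3, ⟨e⟩⟩
    · have ht : (2 : F) ≠ 0 := two_ne_zero_of_odd (by rw [h1]; decide)
      exact rank_l2 hperf h2 hz (Cfsg.Agent.GH.L2Aut.Rep.ofEquiv ht e)
    · exact rank_l2 hperf h2 hz (Cfsg.Agent.GH.L2Aut.Rep.ofEquiv (two_ne_zero_of_odd h1) e)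
  ree := by
    rintro K _ ⟨hfin, hq, h2, hz⟩ h
    exact hz (center_ree hq.1.commutator_eq_top hq.2 h2 h)

end Cfsg.Agent.OddHalf.U2.MulL2
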